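import Cfsg.Agent.Lib.Geometric.OrthMonomial.Reflect

/-!
The support recursion: over a prime field with at least five elements an overgroup with a
non-monomial element fixing a coordinate line has a non-monomial element moving three coordinates
at most; over three elements it has a reflection vector of weight four.
-/

set_option autoImplicit false

namespace CfsgLib.OMon

open CfsgLib.Geometric Finset Matrix

variable {ι : Type} [Fintype ι] [DecidableEq ι] {F : Type*} [Field F]

local notation "e[" j "]" => (Pi.single j (1 : _) : ι → _)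

omit [Fintype ι] in
lemma exists_outside [Fintype ι] (S : Finset ι) (h : S.card < Fintype.card ι) : ∃ l, l ∉ S := by
  by_contra hc
  push Not at hc
  have := card_le_card (show univ ⊆ S from fun l _ => hc l)
  rw [card_univ] at this
  omega

omit [DecidableEq ι] in
lemma sum_sq_supp {u : ι → F} (hu : u ⬝ᵥ u = 1) : ∑ l ∈ supp u, u l * u l = 1 := by
  rw [← hu]
  exact Finset.sum_subset (subset_univ _) fun l _ hl => by
    rw [eq_zero_of_notMem_supp hl, zero_mul]

variable [Finite F] (h2 : (2 : F) ≠ 0) (hn : 7 ≤ Fintype.card ι) {X : Subgroup (GL ι F)}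
  (hX : X ≤ GOs ι F) (hM : MonX X)
include h2 hn hX hM

/-- From a column fixing a line to a vector of weight at least three. -/
lemma exists_inR_large (h : Fix X) : Small X ∨ ∃ u, InR X u ∧ 3 ≤ (supp u).card := by
  classical
  obtain ⟨z, hz, hnm, o, hzo⟩ := h
  have hzG := hX hz
  obtain ⟨c₀, hc₀, hzo'⟩ : ∃ c : F, c ≠ 0 ∧ ap z e[o] = c • e[o] := by
    rcases hzo with h | h
    exacts [⟨1, one_ne_zero, by rw [h, one_smul]⟩,
      ⟨-1, neg_ne_zero.mpr one_ne_zero, by rw [h, neg_one_smul]⟩]
  have hcolo : ∀ x, x ≠ o → ap z e[x] o = 0 := fun x hx => by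
    have := dot_ap h2 hzG e[x] e[o]
    rw [hzo', dotProduct_smul, dotProduct_single, dotProduct_single, Pi.single_eq_of_ne (Ne.symm hx),
      smul_eq_mul, mul_one, zero_mul] at this
    exact (mul_eq_zero.mp this).resolve_left hc₀
  have hR : ∀ x, x ≠ o → InR X (ap z e[x]) := fun x hx =>
    InR.map h2 hX (inR_single h2 hM hx) hz hc₀
      ((inR_single h2 hM hx).mem h2 hM (by simp [Ne.symm hx])) (by simp [Ne.symm hx]) hzo'
  by_cases hbig : ∃ x, 3 ≤ (supp (ap z e[x])).card
  · obtain ⟨x, hx⟩ := hbig
    refine Or.inr ⟨_, hR x fun e => ?_, hx⟩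
    subst e
    have hsub : supp (ap z e[x]) ⊆ {x} := fun i hi => by
      rw [mem_singleton]
      by_contra hne
      rw [mem_supp, hzo'] at hi
      simp [hne] at hi
    have := card_le_card hsub
    simp at this
    omega
  push Not at hbig
  obtain ⟨a, i, j, hij, hai, haj⟩ := exists_two_nonzero hnm
  have hS : supp (ap z e[a]) = {i, j} := (eq_of_subset_of_card_le (fun m hm => by
    simp only [mem_insert, mem_singleton] at hm
    rcases hm with rfl | rfl <;> simpa) (by
    rw [card_pair hij]; exact Nat.le_of_lt_succ (hbig a))).symm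
  have hao : a ≠ o := fun e => by
    subst e
    rw [hzo'] at hai haj
    by_cases hi : i = a
    · subst hi; simp [Ne.symm hij] at haj
    · simp [hi] at hai
  by_cases hspec : ap z e[a] i * ap z e[a] i = ap z e[a] j * ap z e[a] j
  swap
  · exact Or.inl (small_of_two h2 hX hM (hR a hao) hij hS hspec)
  right
  have hamem : ∀ l, l ≠ i → l ≠ j → ap z e[a] l = 0 := fun l h1 h3 =>
    eq_zero_of_notMem_supp (by rw [hS]; simp [h1, h3])
  have hshare : ∀ x, x ≠ a → (ap z e[x] i ≠ 0 ∨ ap z e[x] j ≠ 0) → supp (ap z e[x]) = {i, j} := by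
    intro x hxa hx
    refine (eq_of_subset_of_card_le ?_ (by rw [card_pair hij]; exact Nat.le_of_lt_succ (hbig x))).symm
    have hdot : ap z e[a] i * ap z e[x] i + ap z e[a] j * ap z e[x] j = 0 := by
      have h0 : ap z e[a] ⬝ᵥ ap z e[x] = 0 := by rw [dot_ap h2 hzG]; simp [hxa]
      rw [← h0]
      refine (Finset.sum_pair (f := fun l => ap z e[a] l * ap z e[x] l) hij).symm.trans
        (Finset.sum_subset (subset_univ {i, j}) fun l _ hl => ?_)
      simp only [mem_insert, mem_singleton, not_or] at hl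
      rw [hamem l hl.1 hl.2, zero_mul]
    intro m hm
    rw [mem_supp]
    intro h
    simp only [mem_insert, mem_singleton] at hm
    rcases hm with rfl | rfl <;> simp [h, hai, haj] at hdot <;> simp [h, hdot] at hx
  obtain ⟨b, hba, hbi⟩ : ∃ b, b ≠ a ∧ ap z e[b] i ≠ 0 := by
    by_contra hc
    push Not at hc
    have hrow : ap z⁻¹ e[i] = (ap z e[a] i) • e[a] := funext fun l => by
      rw [ap_inv_entry h2 hzG]
      by_cases hl : l = a
      · subst hl; simp
      · simp [hl, hc l hl]
    have := congrFun (congrArg (ap z) hrow) j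
    rw [ap_ap_inv, ap_smul] at this
    simp [hij.symm, hai, haj] at this
  have hbS := hshare b hba (Or.inl hbi)
  have hbj : ap z e[b] j ≠ 0 := mem_supp.mp (hbS ▸ by simp)
  have hbmem : ∀ l, l ≠ i → l ≠ j → ap z e[b] l = 0 := fun l h1 h3 =>
    eq_zero_of_notMem_supp (by rw [hbS]; simp [h1, h3])
  have hrest : ∀ x, x ≠ a → x ≠ b → ap z e[x] i = 0 ∧ ap z e[x] j = 0 := by
    intro x hxa hxb
    by_contra hc
    have hxS := hshare x hxa (not_and_or.mp hc)
    have := card_le_of_supp (g := z) (Z := {a, b, x}) (T := {i, j}) fun y hy m hm => by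
      simp only [mem_insert, mem_singleton] at hy
      refine eq_zero_of_notMem_supp ?_
      rcases hy with rfl | rfl | rfl <;> simp only [hS, hbS, hxS] <;> exact hm
    rw [card_eq_three.mpr ⟨a, b, x, Ne.symm hba, Ne.symm hxa, Ne.symm hxb, rfl⟩,
      card_pair hij] at this
    omega
  have hio : i ≠ o := fun e => hai (e ▸ hcolo a hao)
  have hbo : b ≠ o := fun e => by
    subst e
    rw [hzo'] at hbi
    simp [hio] at hbi
  obtain ⟨c, hc, d, hd, hcd⟩ := one_lt_card.mp (show 1 < ({a, b, o} : Finset ι)ᶜ.card by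
    rw [card_compl]
    have : ({a, b, o} : Finset ι).card ≤ 3 := card_le_three
    omega)
  simp only [mem_compl, mem_insert, mem_singleton, not_or] at hc hd
  set π := Equiv.swap a c * Equiv.swap c d with hπ
  have hsgn : Equiv.Perm.sign π = 1 := by
    rw [hπ, map_mul, Equiv.Perm.sign_swap (Ne.symm hc.1), Equiv.Perm.sign_swap hcd]; decide
  have hπa : π a = c := by
    rw [hπ, Equiv.Perm.mul_apply, Equiv.swap_apply_of_ne_of_ne (Ne.symm hc.1) (Ne.symm hd.1),
      Equiv.swap_apply_left]
  have hfix : ∀ l, l ≠ a → l ≠ c → l ≠ d → π l = l := fun l h1 h3 h4 => by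
    rw [hπ, Equiv.Perm.mul_apply, Equiv.swap_apply_of_ne_of_ne h3 h4,
      Equiv.swap_apply_of_ne_of_ne h1 h3]
  set y := z * pm F π * z⁻¹ with hy
  have hyX : y ∈ X := mul_mem (mul_mem hz (pm_mem hM hsgn)) (inv_mem hz)
  have hyap : ∀ v, ap y (ap z v) = ap z (ap (pm F π) v) := fun v => by
    rw [hy, ap_mul, ap_inv_ap, ap_mul]
  have hyo : ap y e[o] = (1 : F) • e[o] := by
    have e1 : (e[o] : ι → F) = c₀⁻¹ • ap z e[o] := by
      rw [hzo', smul_smul, inv_mul_cancel₀ hc₀, one_smul]
    rw [one_smul]
    conv_lhs => rw [e1]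
    rw [ap_smul, hyap, ap_pm_single, hfix o (Ne.symm hao) (Ne.symm hc.2.2) (Ne.symm hd.2.2), ← e1]
  have hrow : ap z⁻¹ e[i] = ap z e[a] i • e[a] + ap z e[b] i • e[b] := funext fun l => by
    rw [ap_inv_entry h2 hzG]
    by_cases hl : l = a
    · subst hl; simp [Ne.symm hba]
    by_cases hl' : l = b
    · subst hl'; simp [hba]
    simp [hl, hl', (hrest l hl hl').1]
  have hval : ap y e[i] = ap z e[a] i • ap z e[c] + ap z e[b] i • ap z e[b] := by
    conv_lhs => rw [← ap_ap_inv z e[i], hrow]
    rw [hyap, ap_add, ap_smul, ap_smul, ap_pm_single, ap_pm_single, hπa,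
      hfix b hba (Ne.symm hc.2.1) (Ne.symm hd.2.1), ap_add, ap_smul, ap_smul]
  obtain ⟨m, hm⟩ := Function.ne_iff.mp (ap_ne_zero z (x := e[c]) (by simp))
  have hmi : m ≠ i := fun e => hm (by rw [e]; exact (hrest c hc.1 hc.2.1).1)
  have hmj : m ≠ j := fun e => hm (by rw [e]; exact (hrest c hc.1 hc.2.1).2)
  refine ⟨_, InR.map h2 hX (inR_single h2 hM hio) hyX one_ne_zero
    ((inR_single h2 hM hio).mem h2 hM (by simp [Ne.symm hio])) (by simp [Ne.symm hio]) hyo, ?_⟩
  have hsub : ({i, j, m} : Finset ι) ⊆ supp (ap y e[i]) := by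
    intro l hl
    simp only [mem_insert, mem_singleton] at hl
    rw [mem_supp, hval]
    rcases hl with rfl | rfl | rfl
    · simp [(hrest c hc.1 hc.2.1).1, hbi]
    · simp [(hrest c hc.1 hc.2.1).2, hbi, hbj]
    · rw [Pi.zero_apply] at hm; simp [hbmem _ hmi hmj, hai, hm]
  have := card_le_card hsub
  rwa [card_eq_three.mpr ⟨i, j, m, hij, Ne.symm hmi, Ne.symm hmj, rfl⟩] at this

/-- One move down. -/
lemma drop_pair {u : ι → F} (hu : InR X u) (hk : 3 ≤ (supp u).card) {a b : ι} (hab : a ≠ b)
    (hua : u a ≠ 0) (hub : u b ≠ 0) (hne : u a * u a ≠ u b * u b) :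
    Small X ∨
      (∃ c : F, c ≠ 0 ∧ InR X (c • res ({a, b}ᶜ) u)) ∨
      (u a * u a + u b * u b = 1 ∧
        InR X ((e[a] : ι → F) + (8 * u a) • res ({a, b}ᶜ) u)) := by
  classical
  obtain ⟨hu1, o, ho, -⟩ := id hu
  by_cases hN : u a * u a + u b * u b = 0
  · obtain ⟨c, hc⟩ := card_pos.mp (show 0 < (((supp u).erase a).erase b).card by
      rw [card_erase_of_mem (by simp [hub, Ne.symm hab]), card_erase_of_mem (by simp [hua])]
      omega)
    simp only [mem_erase, mem_supp] at hc
    exact Or.inl (small_of_move h2 hX hM hu hab hc.2.1 hc.1 hua hub hc.2.2 hN)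
  by_cases hN' : u a * u a + u b * u b = 1
  swap
  · rcases step h2 hX hM (by omega) hu hab hua hub hne hN hN' with h | h
    exacts [Or.inl h, Or.inr (Or.inl h)]
  have hrest : res ({a, b}ᶜ) u ⬝ᵥ res ({a, b}ᶜ) u = 0 := by
    have h1 : u ⬝ᵥ u = res ({a, b}ᶜ) u ⬝ᵥ res ({a, b}ᶜ) u + (u a * u a + u b * u b) := by
      rw [← Finset.sum_pair (f := fun l => u l * u l) hab, dotProduct, dotProduct,
        ← Finset.sum_compl_add_sum ({a, b} : Finset ι)]
      congr 1
      rw [← Finset.sum_subset (subset_univ ({a, b}ᶜ : Finset ι)) (f := fun l =>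
        res ({a, b}ᶜ) u l * res ({a, b}ᶜ) u l) fun l _ hl => by rw [res_apply, if_neg hl, zero_mul]]
      exact Finset.sum_congr rfl fun l hl => by rw [res_apply, if_pos hl]
    rw [hu1, hN'] at h1
    linear_combination -h1
  have hrest' : ∀ l, res ({a, b}ᶜ) u l = res (({a, b}ᶜ : Finset ι) ∩ supp u) u l := fun l => by
    simp only [res_apply, mem_inter, mem_supp]
    by_cases h1 : l ∈ ({a, b}ᶜ : Finset ι) <;> by_cases h3 : u l = 0 <;> simp [h1, h3]
  have hres : res ({a, b}ᶜ) u = res (({a, b}ᶜ : Finset ι) ∩ supp u) u := funext hrest'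
  rw [hres] at hrest
  obtain ⟨g, hg, hga, hfix⟩ := exists_move h2 hX hM hu hrest (c := a) (by simp)
  have hao : a ≠ o := fun e => hua (e ▸ ho)
  have hgo : ap g e[o] = (1 : F) • e[o] := by
    rw [one_smul]
    refine hfix _ fun l hl => ?_
    rw [mem_insert] at hl
    have hlo : l ≠ o := by
      rcases hl with rfl | hl
      · exact hao
      · intro e
        simp [e, ho] at hl
    simp [hlo]
  have hR := InR.map h2 hX (inR_single h2 hM hao) hg one_ne_zero
    ((inR_single h2 hM hao).mem h2 hM (by simp [Ne.symm hao])) (by simp [Ne.symm hao]) hgo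
  rw [hga, ← hres] at hR
  exact Or.inr (Or.inr ⟨hN', hR⟩)

omit h2 hn hX hM [Finite F] in
lemma supp_smul_res {c : F} (hc : c ≠ 0) (A : Finset ι) (u : ι → F) :
    supp (c • res A u) = supp u ∩ A := by
  ext l
  by_cases hl : l ∈ A <;> simp [res_apply, hc, hl]

omit hn hX hM [Finite F] in
lemma supp_moved {u : ι → F} {a b : ι} (hua : u a ≠ 0) :
    supp ((e[a] : ι → F) + (8 * u a) • res ({a, b}ᶜ) u) = insert a (supp u ∩ {a, b}ᶜ) := by
  have h8 : (8 : F) ≠ 0 := by
    rw [show (8 : F) = 2 * 2 * 2 by norm_num]; exact mul_ne_zero (mul_ne_zero h2 h2) h2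
  ext l
  by_cases hla : l = a
  · subst hla; simp [res_apply]
  by_cases hlb : l = b
  · subst hlb; simp [res_apply, hla]
  simp [res_apply, hla, hlb, h8, hua]

omit h2 hn hX hM [Finite F] in
lemma card_rest {u : ι → F} {a b : ι} (hab : a ≠ b) (hua : u a ≠ 0) (hub : u b ≠ 0) :
    (supp u ∩ {a, b}ᶜ).card + 2 = (supp u).card := by
  have := card_sdiff_add_card_eq_card (show ({a, b} : Finset ι) ⊆ supp u from fun l hl => by
    simp only [mem_insert, mem_singleton] at hl
    rcases hl with rfl | rfl <;> simp [hua, hub])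
  rw [card_pair hab] at this
  rwa [← sdiff_eq_inter_compl]

/-- Four coordinates pairing into two pairs of different squares. -/
lemma small_of_four_good {u : ι → F} (hu : InR X u) {a b c e : ι}
    (hsupp : supp u = {a, b, c, e}) (hcard : (supp u).card = 4)
    (hne : u a * u a ≠ u b * u b) (hne' : u c * u c ≠ u e * u e) : Small X := by
  classical
  have hab : a ≠ b := fun h => hne (by rw [h])
  have hce : c ≠ e := fun h => hne' (by rw [h])
  have hua : u a ≠ 0 := mem_supp.mp (hsupp ▸ by simp)
  have hub : u b ≠ 0 := mem_supp.mp (hsupp ▸ by simp)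
  have hrest := card_rest hab hua hub
  rcases drop_pair h2 hn hX hM hu (by omega) hab hua hub hne with h | ⟨t, ht, hR⟩ | ⟨-, hR⟩
  · exact h
  · have hs : supp (t • res ({a, b}ᶜ) u) = {c, e} := by
      rw [supp_smul_res ht]
      refine eq_of_subset_of_card_le (fun l hl => ?_) (by rw [card_pair hce]; omega)
      rw [hsupp, mem_inter, mem_compl] at hl
      simp only [mem_insert, mem_singleton] at hl ⊢
      tauto
    have hc : c ∈ supp u ∩ {a, b}ᶜ := by
      rw [← supp_smul_res ht, hs]; simp
    have he : e ∈ supp u ∩ {a, b}ᶜ := by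
      rw [← supp_smul_res ht, hs]; simp
    refine small_of_two h2 hX hM hR hce hs ?_
    simp only [Pi.smul_apply, res_apply, if_pos (mem_inter.mp hc).2, if_pos (mem_inter.mp he).2,
      smul_eq_mul]
    intro h
    exact hne' (mul_left_cancel₀ (mul_ne_zero ht ht) (by linear_combination h))
  · refine small_of_three h2 hX hM hR ?_
    rw [supp_moved h2 hua, card_insert_of_notMem (by simp)]
    omega

omit hn hX hM in
lemma not_both_one {x y t : F} (hxy : x ≠ y) : ¬ (64 * x * t = 1 ∧ 64 * y * t = 1) := by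
  rintro ⟨h1, h3⟩
  refine hxy ?_
  have : 64 * t ≠ 0 := fun h => zero_ne_one (α := F) (by linear_combination h1 - x * h)
  exact mul_left_cancel₀ this (by linear_combination h1 - h3)

/-- Five coordinates not all of the same square. -/
lemma small_of_five (h3 : (3 : F) ≠ 0) {u : ι → F} (hu : InR X u) (hcard : (supp u).card = 5)
    {a b : ι} (hua : u a ≠ 0) (hub : u b ≠ 0) (hne : u a * u a ≠ u b * u b) : Small X := by
  classical
  have hab : a ≠ b := fun h => hne (by rw [h])
  by_cases hgood : ∃ x y, u x ≠ 0 ∧ u y ≠ 0 ∧ u x * u x ≠ u y * u y ∧ u x * u x + u y * u y ≠ 1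
  · obtain ⟨x, y, hx, hy, hxy, hsum⟩ := hgood
    have hxy' : x ≠ y := fun h => hxy (by rw [h])
    rcases drop_pair h2 hn hX hM hu (by omega) hxy' hx hy hxy with h | ⟨t, ht, hR⟩ | ⟨h, -⟩
    · exact h
    · refine small_of_three h2 hX hM hR ?_
      rw [supp_smul_res ht]
      have := card_rest hxy' hx hy
      omega
    · exact absurd h hsum
  push Not at hgood
  obtain ⟨hu1, -⟩ := id hu
  have hrest := card_rest hab hua hub
  obtain ⟨c, d, f, hcd, hcf, hdf, hcdf⟩ := card_eq_three.mp
    (show (supp u ∩ {a, b}ᶜ).card = 3 by omega)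
  have hmem : ∀ l ∈ ({c, d, f} : Finset ι), u l ≠ 0 ∧ l ≠ a ∧ l ≠ b := fun l hl => by
    rw [← hcdf] at hl
    simpa [not_or] using hl
  have hval : ∀ l, u l ≠ 0 → u l * u l = u a * u a ∨ u l * u l = u b * u b := by
    intro l hl
    by_contra hc
    push Not at hc
    have e1 := hgood a l hua hl (Ne.symm hc.1)
    have e2 := hgood a b hua hub hne
    exact hc.2 (by linear_combination e1 - e2)
  have hsum : u a * u a + u b * u b + (u c * u c + u d * u d + u f * u f) = 1 := by
    rw [← sum_sq_supp hu1, ← sdiff_union_of_subset (show ({a, b} : Finset ι) ⊆ supp u from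
      fun l hl => by
        simp only [mem_insert, mem_singleton] at hl
        rcases hl with rfl | rfl <;> simp [hua, hub]),
      sum_union sdiff_disjoint, sdiff_eq_inter_compl, hcdf,
      sum_insert (by simp [hcd, hcf]), sum_pair hdf, sum_pair hab]
    ring
  have hab1 := hgood a b hua hub hne
  have hc := hmem c (by simp)
  have hd := hmem d (by simp)
  have hf := hmem f (by simp)
  -- the vector with the coordinate `a` (or `b`) moved
  have key : ∀ x y, u x ≠ 0 → u y ≠ 0 → u x * u x ≠ u y * u y →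
      supp u ∩ {x, y}ᶜ = {c, d, f} → ∀ p q r, ({c, d, f} : Finset ι) = {p, q, r} →
      p ≠ q → p ≠ r → q ≠ r → u q * u q ≠ u r * u r → 64 * (u x * u x) * (u p * u p) ≠ 1 →
      Small X := by
    intro x y hx hy hxy hxyrest p q r hpqr hpq hpr hqr hne1 hne2
    have hxy' : x ≠ y := fun h => hxy (by rw [h])
    rcases drop_pair h2 hn hX hM hu (by omega) hxy' hx hy hxy with h | ⟨t, ht, hR⟩ | ⟨-, hR⟩
    · exact h
    · refine small_of_three h2 hX hM hR ?_
      rw [supp_smul_res ht, hxyrest]; exact card_eq_three.mpr ⟨c, d, f, hcd, hcf, hdf, rfl⟩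
    · have hs := supp_moved (b := y) h2 hx
      rw [hxyrest, hpqr] at hs
      have hin : ∀ l ∈ ({p, q, r} : Finset ι), l ≠ y ∧ l ≠ x := fun l hl => by
        rw [← hpqr, ← hxyrest, mem_inter] at hl
        exact ⟨fun e => by simp [e] at hl, fun e => by simp [e] at hl⟩
      refine small_of_four_good h2 hn hX hM hR (a := x) (b := p) (c := q) (e := r) hs ?_ ?_ ?_
      · rw [hs, card_insert_of_notMem (fun h => (hin x h).2 rfl),
          card_eq_three.mpr ⟨p, q, r, hpq, hpr, hqr, rfl⟩]
      · simp [res_apply, (hin p (by simp)).1, (hin p (by simp)).2, Pi.single_apply,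
          fun h : x ∈ ({x, y}ᶜ : Finset ι) => (by simp at h : False)]
        intro h
        exact hne2 (by linear_combination -h)
      · simp [res_apply, (hin q (by simp)).1, (hin q (by simp)).2, (hin r (by simp)).1,
          (hin r (by simp)).2, Pi.single_apply]
        intro h
        have h8 : (8 : F) * u x ≠ 0 := mul_ne_zero (by
          rw [show (8 : F) = 2 * 2 * 2 by norm_num]; exact mul_ne_zero (mul_ne_zero h2 h2) h2) hx
        exact hne1 (mul_left_cancel₀ (mul_ne_zero h8 h8) (by linear_combination h))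
  have hba : supp u ∩ {b, a}ᶜ = {c, d, f} := by rw [pair_comm]; exact hcdf
  have both : ∀ p q r, ({c, d, f} : Finset ι) = {p, q, r} → p ≠ q → p ≠ r → q ≠ r →
      u q * u q ≠ u r * u r → Small X := by
    intro p q r h1 hpq hpr hqr hne1
    by_cases h : 64 * (u a * u a) * (u p * u p) = 1
    · exact key b a hub hua (Ne.symm hne) hba p q r h1 hpq hpr hqr hne1
        fun h' => not_both_one h2 hne ⟨h, h'⟩
    · exact key a b hua hub hne hcdf p q r h1 hpq hpr hqr hne1 h
  by_cases e1 : u d * u d = u f * u f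
  swap
  · exact both c d f rfl hcd hcf hdf e1
  by_cases e2 : u c * u c = u f * u f
  swap
  · exact both d c f (Finset.insert_comm c d {f}) (Ne.symm hcd) hdf hcf e2
  exfalso
  rw [e2, e1] at hsum
  rcases hval f hf.1 with e | e
  · rw [e] at hsum
    exact mul_ne_zero h3 (mul_ne_zero hua hua) (by linear_combination hsum - hab1)
  · rw [e] at hsum
    exact mul_ne_zero h3 (mul_ne_zero hub hub) (by linear_combination hsum - hab1)

variable [Fintype F]

omit hn hX hM [Finite F] in
lemma sq_ne_neg_two_five (hp : (Fintype.card F).Prime) (h5 : (5 : F) = 0) (y : F) :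
    y * y ≠ -2 := by
  intro hy
  have hc : Fintype.card F = 5 := by
    obtain ⟨q, hq⟩ := CharP.exists F
    have hq5 : q ∣ 5 := (CharP.cast_eq_zero_iff F q 5).mp (by exact_mod_cast h5)
    have hqc : q ∣ Fintype.card F := (CharP.cast_eq_zero_iff F q _).mp (Nat.cast_card_eq_zero F)
    have hq1 : q ≠ 1 := CharP.char_ne_one F q
    have h5p : Nat.Prime 5 := by norm_num
    rcases (Nat.dvd_prime h5p).mp hq5 with e | e
    · exact absurd e hq1
    · subst e; exact ((Nat.prime_dvd_prime_iff_eq h5p hp).mp hqc).symm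
  by_cases hy0 : y = 0
  · rw [hy0] at hy; exact h2 (by linear_combination hy)
  have := FiniteField.pow_card_sub_one_eq_one y hy0
  rw [hc] at this
  norm_num at this
  refine one_ne_zero (α := F) ?_
  linear_combination 2 * this + (-2 * (y * y) + 4) * hy - h5

/-- Four coordinates over a prime field with at least five elements. -/
lemma small_of_four (hp : (Fintype.card F).Prime) (h3 : (3 : F) ≠ 0) {u : ι → F} (hu : InR X u)
    (hcard : (supp u).card = 4) : Small X := by
  classical
  obtain ⟨hu1, -⟩ := id hu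
  obtain ⟨a, b, c, e, hab, hac, hae, hbc, hbe, hce, hs⟩ := card_eq_four.mp hcard
  have hsum := sum_sq_supp hu1
  rw [hs, sum_insert (by simp [hab, hac, hae]), sum_insert (by simp [hbc, hbe]), sum_pair hce] at hsum
  by_cases hgood : (u a * u a ≠ u b * u b ∧ u c * u c ≠ u e * u e) ∨
      (u a * u a ≠ u c * u c ∧ u b * u b ≠ u e * u e) ∨
      (u a * u a ≠ u e * u e ∧ u b * u b ≠ u c * u c)
  · rcases hgood with ⟨p1, p2⟩ | ⟨p1, p2⟩ | ⟨p1, p2⟩
    · exact small_of_four_good h2 hn hX hM hu hs hcard p1 p2
    · refine small_of_four_good h2 hn hX hM hu (a := a) (b := c) (c := b) (e := e) ?_ hcard p1 p2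
      rw [hs, Finset.insert_comm b c]
    · refine small_of_four_good h2 hn hX hM hu (a := a) (b := e) (c := b) (e := c) ?_ hcard p1 p2
      rw [hs, show ({b, c, e} : Finset ι) = {e, b, c} by
        rw [Finset.insert_comm e b, Finset.pair_comm e c]]
  -- three equal squares
  obtain ⟨a, b, c, e, hab, hac, hae, hbc, hbe, hce, hs, hb, hc, hsum⟩ :
      ∃ a b c e, a ≠ b ∧ a ≠ c ∧ a ≠ e ∧ b ≠ c ∧ b ≠ e ∧ c ≠ e ∧ supp u = {a, b, c, e} ∧
        u b * u b = u a * u a ∧ u c * u c = u a * u a ∧
        3 * (u a * u a) + u e * u e = 1 := by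
    simp only [not_or, not_and_or, not_not] at hgood
    obtain ⟨g1, g2, g3⟩ := hgood
    have : (u b * u b = u a * u a ∧ u c * u c = u a * u a) ∨
        (u b * u b = u a * u a ∧ u e * u e = u a * u a) ∨
        (u c * u c = u a * u a ∧ u e * u e = u a * u a) ∨
        (u c * u c = u b * u b ∧ u e * u e = u b * u b) := by
      rcases g1 with g1 | g1 <;> rcases g2 with g2 | g2 <;> rcases g3 with g3 | g3 <;> grind
    rcases this with ⟨p1, p2⟩ | ⟨p1, p2⟩ | ⟨p1, p2⟩ | ⟨p1, p2⟩
    · exact ⟨a, b, c, e, hab, hac, hae, hbc, hbe, hce, hs, p1, p2,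
        by linear_combination hsum - p1 - p2⟩
    · exact ⟨a, b, e, c, hab, hae, hac, hbe, hbc, Ne.symm hce, by
        rw [hs, Finset.pair_comm c e], p1, p2, by linear_combination hsum - p1 - p2⟩
    · exact ⟨a, c, e, b, hac, hae, hab, hce, Ne.symm hbc, Ne.symm hbe, by
        rw [hs, Finset.insert_comm b c, Finset.pair_comm b e], p1, p2,
        by linear_combination hsum - p1 - p2⟩
    · exact ⟨b, c, e, a, hbc, hbe, Ne.symm hab, hce, Ne.symm hac, Ne.symm hae, by
        rw [hs, Finset.insert_comm a b, Finset.insert_comm a c, Finset.pair_comm a e], p1, p2,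
        by linear_combination hsum - p1 - p2⟩
  obtain ⟨l, hl⟩ := exists_outside (supp u) (by omega)
  obtain ⟨o, ho⟩ := exists_outside (insert l (supp u)) (by rw [card_insert_of_notMem hl]; omega)
  obtain ⟨o', ho'⟩ := exists_outside (insert o (insert l (supp u)))
    (by rw [card_insert_of_notMem ho, card_insert_of_notMem hl]; omega)
  simp only [mem_insert, mem_supp, not_or, not_not] at hl ho ho'
  -- move the coordinate `x` to `l`
  have hmove : ∀ x, u x ≠ 0 → 1 - u x * u x ≠ 0 → 1 - 2 * (1 - u x * u x) ≠ 0 →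
      ∃ w : ι → F, InR X w ∧ (supp w).card = 5 ∧ w l = u x ∧
        w x = -(2 * (1 - u x * u x)) * u x ∧
        ∀ i, u i ≠ 0 → i ≠ x → w i = (1 - 2 * (1 - u x * u x)) * u i := by
    intro x hx hB hB'
    have hxl : x ≠ l := fun e => hx (e ▸ hl)
    have hxo : x ≠ o := fun e => hx (e ▸ ho.2)
    have hxo' : x ≠ o' := fun e => hx (e ▸ ho'.2.2)
    set π := Equiv.swap x l * Equiv.swap o o' with hπ
    have hπs : Equiv.Perm.sign π = 1 := by
      rw [hπ, map_mul, Equiv.Perm.sign_swap hxl, Equiv.Perm.sign_swap (Ne.symm ho'.1)]; decide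
    set v := ap (pm F π) u with hv
    have hvi : ∀ i, v i = if i = x then 0 else if i = l then u x else u i := fun i => by
      rw [hv, ap_pm, hπ, Equiv.Perm.mul_def, Equiv.symm_trans_apply, Equiv.symm_swap, Equiv.symm_swap]
      by_cases hix : i = x
      · subst hix
        rw [if_pos rfl, Equiv.swap_apply_left,
          Equiv.swap_apply_of_ne_of_ne (Ne.symm ho.1) (Ne.symm ho'.2.1), hl]
      by_cases hil : i = l
      · subst hil
        rw [if_neg hix, if_pos rfl, Equiv.swap_apply_right, Equiv.swap_apply_of_ne_of_ne hxo hxo']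
      rw [if_neg hix, if_neg hil, Equiv.swap_apply_of_ne_of_ne hix hil]
      by_cases hio : i = o
      · subst hio; rw [Equiv.swap_apply_left, ho.2, ho'.2.2]
      by_cases hio' : i = o'
      · subst hio'; rw [Equiv.swap_apply_right, ho.2, ho'.2.2]
      rw [Equiv.swap_apply_of_ne_of_ne hio hio']
    have hdot : v ⬝ᵥ u = 1 - u x * u x := by
      have : v ⬝ᵥ u = ∑ i, (u i * u i - if i = x then u x * u x else 0) := by
        refine Finset.sum_congr rfl fun i _ => ?_
        rw [hvi]
        split_ifs with h1 h2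
        · subst h1; ring
        · subst h2; rw [hl]; ring
        · ring
      rw [this, Finset.sum_sub_distrib, Finset.sum_ite_eq', if_pos (mem_univ _)]
      exact congrArg (· - _) hu1
    have hR := InR.refl h2 hX hM hu (InR.perm h2 hX hM hu hπs) (o := o) ho.2 (by
      rw [← hv, hvi, if_neg (Ne.symm hxo), if_neg ho.1, ho.2])
    rw [← hv, hdot] at hR
    refine ⟨_, hR, ?_, ?_, ?_, fun i hi hix => ?_⟩
    · have : supp (v - (2 * (1 - u x * u x)) • u) = insert l (supp u) := by
        ext i
        simp only [mem_supp, mem_insert, Pi.sub_apply, Pi.smul_apply, smul_eq_mul, hvi]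
        split_ifs with h1 h4
        · subst h1; simp [hx, h2, hB]
        · subst h4; simp [hl, hx]
        · rw [show u i - 2 * (1 - u x * u x) * u i = (1 - 2 * (1 - u x * u x)) * u i by ring]
          simp [hB', h4]
      rw [this, card_insert_of_notMem (by simp [hl]), hcard]
    · simp only [Pi.sub_apply, Pi.smul_apply, smul_eq_mul, hvi, if_neg (Ne.symm hxl), if_pos, hl]
      ring
    · simp only [Pi.sub_apply, Pi.smul_apply, smul_eq_mul, hvi, if_pos]
      ring
    · simp only [Pi.sub_apply, Pi.smul_apply, smul_eq_mul, hvi, if_neg hix,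
        if_neg (show i ≠ l from fun e => hi (e ▸ hl))]
      ring
  have hua : u a ≠ 0 := mem_supp.mp (hs ▸ by simp)
  have hub : u b ≠ 0 := mem_supp.mp (hs ▸ by simp)
  have hue : u e ≠ 0 := mem_supp.mp (hs ▸ by simp)
  have hla : l ≠ a := fun h => hua (h ▸ hl)
  set A := u a * u a with hA
  by_cases hB : 1 - A = 0 ∨ 1 - 2 * (1 - A) = 0
  · -- move `e`
    have hE : u e * u e = 1 - 3 * A := by linear_combination hsum
    have h1 : 1 - u e * u e ≠ 0 := by
      rw [hE]; intro h; exact mul_ne_zero h3 (mul_ne_zero hua hua) (by linear_combination h)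
    have h4 : 1 - 2 * (1 - u e * u e) ≠ 0 := by
      rw [hE]
      intro h
      rcases hB with hB | hB
      · refine sq_ne_neg_two_five h2 hp ?_ (u e) ?_
        · linear_combination -h + 6 * hB
        · linear_combination hE + 3 * hB
      · exact h2 (by linear_combination -h - 3 * hB)
    obtain ⟨w, hw, hw5, hwl, hwe, hwi⟩ := hmove e hue h1 h4
    rcases hB with hB | hB
    · refine small_of_five h2 hn hX hM h3 hw hw5 (a := a) (b := l) ?_ (by rw [hwl]; exact hue) ?_
      · rw [hwi a hua hae]; exact mul_ne_zero h4 hua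
      · rw [hwl, hwi a hua hae, hE]
        intro h
        exact mul_ne_zero (mul_ne_zero h3 h3) h3 (by linear_combination h + (36 * A * A + 24 * A + 28) * hB)
    · refine small_of_five h2 hn hX hM h3 hw hw5 (a := e) (b := l)
        (by rw [hwe]; exact mul_ne_zero (neg_ne_zero.mpr (mul_ne_zero h2 h1)) hue)
        (by rw [hwl]; exact hue) ?_
      rw [hwe, hwl]
      intro h
      have hA2 : 2 * A = 1 := by linear_combination hB
      have h8 : (2 * (1 - u e * u e)) * (2 * (1 - u e * u e)) = 1 :=
        mul_right_cancel₀ (mul_ne_zero hue hue) (by linear_combination h)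
      rw [hE] at h8
      exact mul_ne_zero (mul_ne_zero h2 h2) h2 (by linear_combination h8 - 9 * (2 * A + 1) * hA2)
  push Not at hB
  obtain ⟨w, hw, hw5, hwl, hwa, hwi⟩ := hmove a hua hB.1 hB.2
  by_cases hsq : (2 * (1 - A)) * (2 * (1 - A)) = 1
  · refine small_of_five h2 hn hX hM h3 hw hw5 (a := b) (b := l) ?_ (by rw [hwl]; exact hua) ?_
    · rw [hwi b hub (Ne.symm hab)]; exact mul_ne_zero hB.2 hub
    · rw [hwl, hwi b hub (Ne.symm hab)]
      intro h
      have hm : 2 * (1 - A) = -1 := by
        rcases mul_self_eq_one_iff.mp hsq with h' | h'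
        · exact absurd (by linear_combination -h') hB.2
        · exact h'
      refine mul_ne_zero h3 (mul_ne_zero hua hua) ?_
      rw [hm] at h
      linear_combination h - 4 * hb
  · refine small_of_five h2 hn hX hM h3 hw hw5 (a := a) (b := l)
      (by rw [hwa]; exact mul_ne_zero (neg_ne_zero.mpr (mul_ne_zero h2 hB.1)) hua)
      (by rw [hwl]; exact hua) ?_
    rw [hwa, hwl]
    intro h
    exact hsq (mul_right_cancel₀ (mul_ne_zero hua hua) (by linear_combination h))

omit hn hM in
lemma exists_flip_subset {u : ι → F} (hu : InR X u) {C : F}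
    (hC : ∀ l, u l ≠ 0 → u l * u l = C) {m : ℕ} (hm : m ≤ (supp u).card) (hM : MonX X) :
    ∃ (S : Finset ι) (w : ι → F), S ⊆ supp u ∧ S.card = m ∧ InR X w ∧
      ∀ l, w l = ((if l ∈ S then -1 else 1) - 2 * (1 - 2 * (m : F) * C)) * u l := by
  obtain ⟨S, hS, hSc⟩ := exists_subset_card_eq hm
  obtain ⟨hu1, o, ho, -⟩ := id hu
  set v := ap (dg F S) u with hv
  have hdot : v ⬝ᵥ u = 1 - 2 * (m : F) * C := by
    have : v ⬝ᵥ u = ∑ l, (u l * u l - if l ∈ S then 2 * (u l * u l) else 0) := by
      refine Finset.sum_congr rfl fun l _ => ?_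
      rw [hv, ap_dg]; split_ifs <;> ring
    rw [this, Finset.sum_sub_distrib, Finset.sum_ite, Finset.sum_const_zero, add_zero,
      Finset.filter_mem_eq_inter, Finset.univ_inter,
      Finset.sum_congr rfl fun l hl => (show (2 : F) * (u l * u l) = 2 * C by
        rw [hC l (mem_supp.mp (hS hl))]), Finset.sum_const, hSc, nsmul_eq_mul]
    rw [show (∑ x, u x * u x) = 1 from hu1]
    ring
  have hR := InR.refl h2 hX hM hu (InR.flip h2 hX hM hu S) (o := o) ho
    (by rw [ap_dg]; split_ifs <;> simp [ho])
  refine ⟨S, _, hS, hSc, hR, fun l => ?_⟩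
  rw [← hv, hdot, Pi.sub_apply, Pi.smul_apply, smul_eq_mul, hv, ap_dg]
  split_ifs <;> ring

/-- Over a prime field with at least five elements. -/
theorem small_of_fix (hp : (Fintype.card F).Prime) (h3 : (3 : F) ≠ 0) (h : Fix X) : Small X := by
  classical
  rcases exists_inR_large h2 hn hX hM h with hs | ⟨u, hu, hk⟩
  · exact hs
  suffices H : ∀ k, ∀ u : ι → F, InR X u → (supp u).card = k → 3 ≤ k → Small X from
    H _ u hu rfl hk
  intro k
  induction k using Nat.strong_induction_on with
  | _ k ih =>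
    intro u hu hcard hk
    rcases (show k = 3 ∨ k = 4 ∨ 5 ≤ k by omega) with rfl | rfl | hk5
    · exact small_of_three h2 hX hM hu hcard
    · exact small_of_four h2 hn hX hM hp h3 hu hcard
    -- non-constant vectors go down
    have hdown : ∀ w, InR X w → (supp w).card = k → ∀ a b, w a ≠ 0 → w b ≠ 0 →
        w a * w a ≠ w b * w b → Small X := by
      intro w hw hwk a b ha hb hne
      have hab : a ≠ b := fun h => hne (by rw [h])
      have hr := card_rest hab ha hb
      rcases drop_pair h2 hn hX hM hw (by omega) hab ha hb hne with h | ⟨t, ht, hR⟩ | ⟨-, hR⟩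
      · exact h
      · exact ih (k - 2) (by omega) _ hR (by rw [supp_smul_res ht]; omega) (by omega)
      · refine ih (k - 1) (by omega) _ hR ?_ (by omega)
        rw [supp_moved h2 ha, card_insert_of_notMem (by simp)]
        omega
    by_cases hconst : ∀ a b, u a ≠ 0 → u b ≠ 0 → u a * u a = u b * u b
    swap
    · push Not at hconst
      obtain ⟨a, b, ha, hb, hne⟩ := hconst
      exact hdown u hu hcard a b ha hb hne
    obtain ⟨a, ha⟩ := card_pos.mp (show 0 < (supp u).card by omega)
    rw [mem_supp] at ha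
    set C := u a * u a with hC
    have hC' : ∀ l, u l ≠ 0 → u l * u l = C := fun l hl => hconst l a hl ha
    have hkC : (k : F) * C = 1 := by
      rw [← sum_sq_supp hu.1, Finset.sum_congr rfl fun l hl => hC' l (mem_supp.mp hl),
        Finset.sum_const, hcard, nsmul_eq_mul]
    -- the outcome of flipping `m` coordinates
    have hflip : ∀ m : ℕ, 1 ≤ m → m < k → ∀ B : F, B = 1 - 2 * (m : F) * C → B ≠ 0 →
        (1 - 2 * B = 0 → False) → ((1 + 2 * B = 0 → 3 ≤ k - m)) → Small X := by
      intro m hm1 hmk B hB hB0 hB1 hB2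
      obtain ⟨S, w, hS, hSc, hw, hwv⟩ := exists_flip_subset h2 hX hu hC' (m := m) (by omega) hM
      obtain ⟨x, hx⟩ := card_pos.mp (show 0 < S.card by omega)
      obtain ⟨y, hy⟩ := card_pos.mp (show 0 < (supp u \ S).card by
        rw [card_sdiff_of_subset hS]; omega)
      rw [mem_sdiff, mem_supp] at hy
      have hux : u x ≠ 0 := mem_supp.mp (hS hx)
      by_cases hz : 1 + 2 * B = 0
      · have hs : supp w = supp u \ S := by
          ext l
          rw [mem_supp, hwv, mem_sdiff, mem_supp, ← hB]
          split_ifs with hl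
          · simp [show (-1 : F) - 2 * B = 0 by linear_combination -hz, hl]
          · simp [show (1 : F) - 2 * B ≠ 0 from hB1, hl]
        refine ih (k - m) (by omega) w hw ?_ (hB2 hz)
        rw [hs, card_sdiff_of_subset hS, hcard, hSc]
      · have hz' : (-1 : F) - 2 * B ≠ 0 := fun h => hz (by linear_combination -h)
        have hs : supp w = supp u := by
          ext l
          rw [mem_supp, hwv, mem_supp, ← hB]
          split_ifs with hl
          · simp [hz']
          · simp [show (1 : F) - 2 * B ≠ 0 from hB1]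
        refine hdown w hw (by rw [hs, hcard]) x y ?_ ?_ ?_
        · rw [hwv, ← hB, if_pos hx]; exact mul_ne_zero hz' hux
        · rw [hwv, ← hB, if_neg hy.2]; exact mul_ne_zero hB1 hy.1
        · rw [hwv, hwv, ← hB, if_pos hx, if_neg hy.2]
          intro h
          have e := hC' x hux
          have e' := hC' y hy.1
          refine mul_ne_zero (mul_ne_zero (mul_ne_zero h2 h2) h2) (mul_ne_zero hB0 (mul_ne_zero ha ha)) ?_
          linear_combination h - (-1 - 2 * B) * (-1 - 2 * B) * e + (1 - 2 * B) * (1 - 2 * B) * e'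
    by_cases hB0 : 1 - 2 * C = 0
    · -- two flips
      refine hflip 2 (by omega) (by omega) (-1) (by push_cast; linear_combination -2 * hB0)
        (neg_ne_zero.mpr one_ne_zero) (fun h => h3 (by linear_combination h))
        (fun h => absurd (show (1 : F) = 0 by linear_combination -h) one_ne_zero)
    by_cases hB1 : 1 - 2 * (1 - 2 * C) = 0
    · -- three flips
      have h6 : k ≠ 5 ∧ k ≠ 6 := by
        have h4C : 4 * C = 1 := by linear_combination hB1
        constructor <;> rintro rfl <;> push_cast at hkC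
        · exact one_ne_zero (α := F) (by linear_combination 4 * hkC - 5 * h4C)
        · exact h2 (by linear_combination 4 * hkC - 6 * h4C)
      refine hflip 3 (by omega) (by omega) (1 - 6 * C) (by push_cast; ring) (fun h => ?_) (fun h => ?_)
        (fun _ => by omega)
      · exact one_ne_zero (α := F) (by linear_combination -(2 * h) - 3 * hB1)
      · exact h2 (by linear_combination h - 3 * hB1)
    exact hflip 1 le_rfl (by omega) (1 - 2 * C) (by push_cast; ring) hB0 hB1 (fun _ => by omega)

omit [Finite F] in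
/-- Over three elements. -/
theorem four_of_fix (hq : Fintype.card F = 3) (h : Fix X) :
    Small X ∨ ∃ u, InR X u ∧ (supp u).card = 4 := by
  classical
  haveI : Finite F := Finite.of_fintype F
  have h3 : (3 : F) = 0 := by
    have := Nat.cast_card_eq_zero F
    rw [hq] at this
    exact_mod_cast this
  have hsq : ∀ x : F, x ≠ 0 → x * x = 1 := fun x hx => by
    have := FiniteField.pow_card_sub_one_eq_one x hx
    rw [hq] at this
    simpa [pow_two] using this
  rcases exists_inR_large h2 hn hX hM h with hs | ⟨u, hu, hk⟩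
  · exact Or.inl hs
  suffices H : ∀ k, ∀ u : ι → F, InR X u → (supp u).card = k → 3 ≤ k →
      Small X ∨ ∃ u, InR X u ∧ (supp u).card = 4 from H _ u hu rfl hk
  intro k
  induction k using Nat.strong_induction_on with
  | _ k ih =>
    intro u hu hcard hk
    rcases (show k = 3 ∨ k = 4 ∨ 5 ≤ k by omega) with rfl | rfl | hk5
    · exact Or.inl (small_of_three h2 hX hM hu hcard)
    · exact Or.inr ⟨u, hu, hcard⟩
    have hC' : ∀ l, u l ≠ 0 → u l * u l = (1 : F) := fun l hl => hsq _ hl
    have hkF : (k : F) = 1 := by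
      rw [← sum_sq_supp hu.1, Finset.sum_congr rfl fun l hl => hC' l (mem_supp.mp hl),
        Finset.sum_const, hcard, nsmul_eq_mul, mul_one]
    have hk6 : k ≠ 5 ∧ k ≠ 6 := by
      constructor <;> rintro rfl <;> push_cast at hkF
      · exact one_ne_zero (α := F) (by linear_combination hkF - h3)
      · exact one_ne_zero (α := F) (by linear_combination -hkF + 2 * h3)
    obtain ⟨S, w, hS, hSc, hw, hwv⟩ := exists_flip_subset h2 hX hu hC' (m := 3) (by omega) hM
    refine ih (k - 3) (by omega) w hw ?_ (by omega)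
    have hs : supp w = supp u \ S := by
      ext l
      rw [mem_supp, hwv, mem_sdiff, mem_supp, Nat.cast_ofNat, mul_one]
      split_ifs with hl
      · simp [show (-1 : F) - 2 * (1 - 2 * 3) = 0 by linear_combination 3 * h3, hl]
      · simp [show (1 : F) - 2 * (1 - 2 * 3) = -1 by linear_combination 4 * h3, hl]
    rw [hs, card_sdiff_of_subset hS, hcard, hSc]

end CfsgLib.OMon
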