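import Cfsg.Agent.Lib.Geometric.OrthMonomial.Planes

/-!
Unit vectors whose reflections lie in an overgroup of the signed even permutations up to a
coordinate reflection, and the two moves lowering their support.
-/

set_option autoImplicit false

namespace CfsgLib.OMon

open CfsgLib.Geometric Finset Matrix

variable {ι : Type} [Fintype ι] [DecidableEq ι] {F : Type*} [Field F]

local notation "e[" j "]" => (Pi.single j (1 : _) : ι → _)

/-- `u` is a unit vector with a zero coordinate `o` and `rv u * rv e[o]` lies in `X`. -/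
def InR (X : Subgroup (GL ι F)) (u : ι → F) : Prop :=
  u ⬝ᵥ u = 1 ∧ ∃ o, u o = 0 ∧ rv u * rv (Pi.single o (1 : F)) ∈ X

/-- A non-monomial element of `X` moving at most three coordinates. -/
def Small (X : Subgroup (GL ι F)) : Prop :=
  ∃ y ∈ X, ¬ IsMon y ∧ ∃ T : Finset ι, T.card ≤ 3 ∧
    ∀ x : ι → F, (∀ l ∈ T, x l = 0) → ap y x = x

/-- The restriction of a vector to a set of coordinates. -/
def res (A : Finset ι) (u : ι → F) : ι → F := fun i => if i ∈ A then u i else 0

lemma res_apply (A : Finset ι) (u : ι → F) (i : ι) :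
    res A u i = if i ∈ A then u i else 0 := rfl

omit [Field F] in
lemma res_pair_single [Field F] {a b : ι} (hab : a ≠ b) (u : ι → F) :
    res {a, b} u = u a • (e[a] : ι → F) + u b • e[b] := by
  funext i
  by_cases ha : i = a
  · subst ha; simp [res, hab]
  by_cases hb : i = b
  · subst hb; simp [res, Ne.symm hab]
  simp [res, ha, hb]

variable (h2 : (2 : F) ≠ 0) {X : Subgroup (GL ι F)} (hX : X ≤ GOs ι F) (hM : MonX X)
include h2 hX hM

omit hX in
lemma InR.mem {u : ι → F} (hu : InR X u) {o : ι} (ho : u o = 0) :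
    rv u * rv (e[o] : ι → F) ∈ X := by
  obtain ⟨-, o', ho', h⟩ := hu
  by_cases hoo : o' = o
  · subst hoo; exact h
  have := mul_mem h (dg_pair_mem hM hoo)
  rwa [dg_pair h2 hoo, mul_assoc, ← mul_assoc (rv (e[o'] : ι → F)), rv_mul_self, one_mul] at this

omit hX in
lemma InR.mul_mem' {u v : ι → F} (hu : InR X u) (hv : InR X v) {o : ι} (huo : u o = 0)
    (hvo : v o = 0) : rv u * rv v ∈ X := by
  have h := mul_mem (hu.mem h2 hM huo) (inv_mem (hv.mem h2 hM hvo))
  rwa [_root_.mul_inv_rev, rv_inv, rv_inv, mul_assoc, ← mul_assoc (rv (e[o] : ι → F)),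
    rv_mul_self, one_mul] at h

omit hM in
lemma InR.map {u : ι → F} (hu : InR X u) {g : GL ι F} (hg : g ∈ X) {o o' : ι} {c : F}
    (hc : c ≠ 0) (ho : rv u * rv (e[o] : ι → F) ∈ X) (huo : u o = 0)
    (hgo : ap g e[o] = c • e[o']) : InR X (ap g u) := by
  refine ⟨by rw [dot_self_ap (hX hg)]; exact hu.1, o', ?_, ?_⟩
  · have := dot_ap h2 (hX hg) u e[o]
    rw [hgo, dotProduct_smul, dotProduct_single, dotProduct_single, huo, smul_eq_mul, mul_one,
      zero_mul] at this
    exact (mul_eq_zero.mp this).resolve_left hc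
  · have := mul_mem (mul_mem hg ho) (inv_mem hg)
    rwa [show g * (rv u * rv (e[o] : ι → F)) * g⁻¹ =
      (g * rv u * g⁻¹) * (g * rv (e[o] : ι → F) * g⁻¹) by group, conj_rv h2 (hX hg),
      conj_rv h2 (hX hg), hgo, rv_smul _ hc] at this

omit hX in
lemma inR_single {a o : ι} (hao : a ≠ o) : InR X (e[a] : ι → F) :=
  ⟨by simp, o, by simp [Ne.symm hao], by rw [← dg_pair h2 hao]; exact dg_pair_mem hM hao⟩

lemma InR.flip {u : ι → F} (hu : InR X u) (A : Finset ι) : InR X (ap (dg F A) u) := by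
  induction A using Finset.induction_on with
  | empty =>
    rwa [show ap (dg F (∅ : Finset ι)) u = u from funext fun i => by simp [ap_dg]]
  | insert a A ha ih =>
    have hval : ap (dg F (insert a A)) u = ap (dg F {a}) (ap (dg F A) u) := funext fun i => by
      rw [ap_dg, ap_dg, ap_dg]
      by_cases hi : i = a
      · subst hi; simp [ha]
      · simp [hi]
    rw [hval]
    obtain ⟨hv1, o, ho, hmem⟩ := ih
    by_cases hva : ap (dg F A) u a = 0
    · rw [show ap (dg F {a}) (ap (dg F A) u) = ap (dg F A) u from funext fun i => by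
        rw [ap_dg]; by_cases hi : i = a
        · subst hi; simp [hva]
        · simp [hi]]
      exact ⟨hv1, o, ho, hmem⟩
    have hao : a ≠ o := fun h => hva (h ▸ ho)
    set v := ap (dg F A) u with hv
    have hstep := InR.map h2 hX ⟨hv1, o, ho, hmem⟩ (dg_pair_mem hM hao) (c := -1) (o' := o)
      (neg_ne_zero.mpr one_ne_zero) hmem ho (funext fun i => by
        rw [ap_dg]; by_cases hi : i = o
        · subst hi; simp
        · simp [hi])
    rwa [show ap (dg F {a, o}) v = ap (dg F {a}) v from funext fun i => by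
      rw [ap_dg, ap_dg]
      by_cases hi : i = o
      · subst hi; simp [Ne.symm hao, ho]
      · simp [hi]] at hstep

lemma InR.perm {u : ι → F} (hu : InR X u) {π : Equiv.Perm ι} (hπ : Equiv.Perm.sign π = 1) :
    InR X (ap (pm F π) u) := by
  obtain ⟨hu1, o, ho, hmem⟩ := hu
  exact InR.map h2 hX ⟨hu1, o, ho, hmem⟩ (pm_mem hM hπ) one_ne_zero hmem ho
    (by rw [one_smul, ap_pm_single])

lemma InR.refl {u v : ι → F} (hu : InR X u) (hv : InR X v) {o : ι} (huo : u o = 0)
    (hvo : v o = 0) : InR X (v - (2 * (v ⬝ᵥ u)) • u) := by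
  have h := InR.map h2 hX hv (hu.mem h2 hM huo) (c := -1) (o' := o)
    (neg_ne_zero.mpr one_ne_zero) (hv.mem h2 hM hvo) hvo (by
      rw [ap_mul, ap_rv_self (by simp), ← neg_one_smul F (e[o] : ι → F), ap_smul,
        ap_rv_fix (by simp [huo])])
  rwa [ap_mul, ap_rv_fix (show v ⬝ᵥ (e[o] : ι → F) = 0 by simp [hvo]), ap_rv, hu.1, div_one] at h

/-- A column of a non-monomial element fixing a coordinate line. -/
lemma exists_inR (h : Fix X) : ∃ u, InR X u ∧ 2 ≤ (supp u).card := by
  obtain ⟨z, hz, hnm, o, hzo⟩ := h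
  obtain ⟨j, a, b, hab, ha, hb⟩ := exists_two_nonzero hnm
  have hcard : 2 ≤ (supp (ap z e[j])).card :=
    one_lt_card.mpr ⟨a, mem_supp.mpr ha, b, mem_supp.mpr hb, hab⟩
  obtain ⟨c, hc, hzo'⟩ : ∃ c : F, c ≠ 0 ∧ ap z e[o] = c • e[o] := by
    rcases hzo with h | h
    exacts [⟨1, one_ne_zero, by rw [h, one_smul]⟩,
      ⟨-1, neg_ne_zero.mpr one_ne_zero, by rw [h, neg_one_smul]⟩]
  have hjo : j ≠ o := fun e => by
    subst e
    rw [hzo'] at hcard
    have : supp (c • (e[j] : ι → F)) ⊆ {j} := fun i hi => by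
      rw [mem_singleton]; by_contra hne; simp [hne] at hi
    have := card_le_card this
    simp at this
    omega
  exact ⟨_, InR.map h2 hX (inR_single h2 hM hjo) hz hc
    ((inR_single h2 hM hjo).mem h2 hM (by simp [Ne.symm hjo])) (by simp [Ne.symm hjo]) hzo', hcard⟩

lemma small_of_two {u : ι → F} (hu : InR X u) {a c : ι} (hac : a ≠ c) (hsupp : supp u = {a, c})
    (hne : u a * u a ≠ u c * u c) : Small X := by
  obtain ⟨hu1, o, ho, -⟩ := id hu
  have hua : u a ≠ 0 := mem_supp.mp (hsupp ▸ by simp)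
  have huc : u c ≠ 0 := mem_supp.mp (hsupp ▸ by simp)
  have hoa : a ≠ o := fun e => hua (e ▸ ho)
  have hsum : u a * u a + u c * u c = 1 := by
    rw [← hu1]
    refine (Finset.sum_pair (f := fun l => u l * u l) hac).symm.trans
      (Finset.sum_subset (subset_univ {a, c}) fun l _ hl => ?_)
    rw [← hsupp] at hl
    rw [eq_zero_of_notMem_supp hl, zero_mul]
  refine ⟨rv u * rv (e[a] : ι → F), InR.mul_mem' h2 hM hu (inR_single h2 hM hoa) ho
    (by simp [Ne.symm hoa]), not_isMon_of_col (j := a) hac ?_ ?_, {a, c}, card_le_two.trans (by omega),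
    fun x hx => ?_⟩
  · rw [ap_mul, ap_rv_self (by simp), ap_rv, hu1, div_one]
    simp
    intro h
    exact hne (by linear_combination h - hsum)
  · rw [ap_mul, ap_rv_self (by simp), ap_rv, hu1, div_one]
    simp [Ne.symm hac, hua, huc, h2]
  · rw [ap_mul, ap_rv_fix (show x ⬝ᵥ (e[a] : ι → F) = 0 by simp [hx a (by simp)]), ap_rv_fix]
    refine Finset.sum_eq_zero fun l _ => ?_
    by_cases hl : l ∈ supp u
    · rw [hx l (hsupp ▸ hl), zero_mul]
    · rw [eq_zero_of_notMem_supp hl, mul_zero]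

lemma small_of_three {u : ι → F} (hu : InR X u) (hcard : (supp u).card = 3) : Small X := by
  obtain ⟨hu1, o, ho, -⟩ := id hu
  obtain ⟨a, b, c, hab, hac, hbc, hs⟩ := card_eq_three.mp hcard
  have hua : u a ≠ 0 := mem_supp.mp (hs ▸ by simp)
  have hub : u b ≠ 0 := mem_supp.mp (hs ▸ by simp)
  have huc : u c ≠ 0 := mem_supp.mp (hs ▸ by simp)
  have hoa : a ≠ o := fun e => hua (e ▸ ho)
  refine ⟨rv u * rv (e[a] : ι → F), InR.mul_mem' h2 hM hu (inR_single h2 hM hoa) ho
    (by simp [Ne.symm hoa]), not_isMon_of_col (j := a) hbc ?_ ?_, supp u, hcard.le, fun x hx => ?_⟩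
  · rw [ap_mul, ap_rv_self (by simp), ap_rv, hu1, div_one]
    simp [Ne.symm hab, hua, hub, h2]
  · rw [ap_mul, ap_rv_self (by simp), ap_rv, hu1, div_one]
    simp [Ne.symm hac, hua, huc, h2]
  · rw [ap_mul, ap_rv_fix (show x ⬝ᵥ (e[a] : ι → F) = 0 by simp [hx a (hs ▸ by simp)]), ap_rv_fix]
    refine Finset.sum_eq_zero fun l _ => ?_
    by_cases hl : l ∈ supp u
    · rw [hx l hl, zero_mul]
    · rw [eq_zero_of_notMem_supp hl, mul_zero]

/-- Two rotations of a coordinate plane shifted by a three-cycle. -/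
lemma small_of_shift {v : ι → F} {a b l : ι} (hab : a ≠ b) (hla : l ≠ a) (hlb : l ≠ b)
    (hv : ∀ i, i ≠ a → i ≠ b → v i = 0) (hva : v a ≠ 0) (hvb : v b ≠ 0)
    (hne : v a * v a ≠ v b * v b) (hN : v ⬝ᵥ v ≠ 0)
    (h : rv v * rv (ap (pm F (Equiv.swap a b * Equiv.swap b l)) v) ∈ X) : Small X := by
  set w := ap (pm F (Equiv.swap a b * Equiv.swap b l)) v with hw
  have hww : w ⬝ᵥ w = v ⬝ᵥ v := dot_self_ap (pm_mem_GOs _) v
  have hwv : ∀ i, w i = if i = b then v a else if i = l then v b else 0 := fun i => by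
    rw [hw, ap_pm, Equiv.Perm.mul_def, Equiv.symm_trans_apply, Equiv.symm_swap, Equiv.symm_swap]
    by_cases hib : i = b
    · subst hib
      rw [if_pos rfl, Equiv.swap_apply_right, Equiv.swap_apply_of_ne_of_ne hab (Ne.symm hla)]
    by_cases hil : i = l
    · subst hil
      rw [if_neg hib, if_pos rfl, Equiv.swap_apply_of_ne_of_ne hla hlb, Equiv.swap_apply_right]
    rw [if_neg hib, if_neg hil]
    by_cases hia : i = a
    · subst hia
      rw [Equiv.swap_apply_left, Equiv.swap_apply_left]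
      exact hv l hla hlb
    · rw [Equiv.swap_apply_of_ne_of_ne hia hib, Equiv.swap_apply_of_ne_of_ne hib hil]
      exact hv i hia hib
  have hNval : v ⬝ᵥ v = v a * v a + v b * v b := by
    refine ((Finset.sum_pair (f := fun i => v i * v i) hab).symm.trans
      (Finset.sum_subset (subset_univ {a, b}) fun i _ hi => ?_)).symm
    simp only [mem_insert, mem_singleton, not_or] at hi
    rw [hv i hi.1 hi.2, zero_mul]
  have hwe : w ⬝ᵥ v = v a * v b := by
    rw [dotProduct, Finset.sum_eq_single b]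
    · rw [hwv, if_pos rfl]
    · intro i _ hi
      rw [hwv, if_neg hi]
      split_ifs with hil
      · rw [hil, hv l hla hlb, mul_zero]
      · rw [zero_mul]
    · simp
  refine ⟨_, h, not_isMon_of_col (j := l) (Ne.symm hla) ?_ ?_, {a, b, l}, card_le_three, fun x hx => ?_⟩
  · rw [ap_mul, ap_rv w, ap_sub, ap_smul, ap_rv_fix (show (e[l] : ι → F) ⬝ᵥ v = 0 by
      simp [hv l hla hlb]), ap_rv, hwe, hww]
    simp [hwv a, hab, Ne.symm hla, hwv l, hlb, hva, hvb, h2, hN]
  · rw [ap_mul, ap_rv w, ap_sub, ap_smul, ap_rv_fix (show (e[l] : ι → F) ⬝ᵥ v = 0 by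
      simp [hv l hla hlb]), ap_rv, hwe, hww]
    simp [hwv l, hlb, hv l hla hlb]
    intro h0
    field_simp at h0
    exact hne (by linear_combination h0 - hNval)
  · have h1 : x ⬝ᵥ v = 0 := Finset.sum_eq_zero fun i _ => by
      by_cases hi : i = a ∨ i = b
      · rcases hi with rfl | rfl <;> simp [hx]
      · push Not at hi; rw [hv i hi.1 hi.2, mul_zero]
    have h3 : x ⬝ᵥ w = 0 := Finset.sum_eq_zero fun i _ => by
      rw [hwv]; split_ifs with h1 h3
      · subst h1; simp [hx]
      · subst h3; simp [hx]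
      · rw [mul_zero]
    rw [ap_mul, ap_rv_fix h3, ap_rv_fix h1]

/-- An isotropic part of a vector of `InR` gives a Siegel element. -/
lemma exists_move {u : ι → F} (hu : InR X u) {A : Finset ι} (hx : res A u ⬝ᵥ res A u = 0) {c : ι}
    (hc : c ∉ A) :
    ∃ g ∈ X, ap g e[c] = (e[c] : ι → F) + (8 * u c) • res A u ∧
      ∀ y : ι → F, (∀ l ∈ insert c A, y l = 0) → ap g y = y := by
  obtain ⟨hu1, o, ho, -⟩ := id hu
  set x := res A u with hxdef
  have hxu : x ⬝ᵥ u = 0 := by
    rw [← hx]
    refine Finset.sum_congr rfl fun i _ => ?_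
    rw [hxdef, res_apply]; split_ifs <;> ring
  have hxo : x o = 0 := by rw [hxdef, res_apply, ho, ite_self]
  have hflip : ∀ w : ι → F, (∀ i ∈ A, w i = u i) →
      ap (dg F A) w = w - (2 : F) • x := fun w hw => funext fun i => by
    simp only [ap_dg, hxdef, Pi.sub_apply, Pi.smul_apply, res_apply, smul_eq_mul]
    split_ifs with hi
    · rw [hw i hi]; ring
    · ring
  set u' := ap (dg F {c}) u with hu'
  have hu'A : ∀ i ∈ A, u' i = u i := fun i hi => by
    rw [hu', ap_dg, if_neg (by rw [mem_singleton]; exact fun e => hc (e ▸ hi))]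
  have hu'1 : u' ⬝ᵥ u' = 1 := by rw [hu', dot_self_ap (dg_mem_GOs _), hu1]
  have hu'o : u' o = 0 := by rw [hu', ap_dg]; split_ifs <;> simp [ho]
  have hxu' : x ⬝ᵥ u' = 0 := by
    rw [← hxu]
    refine Finset.sum_congr rfl fun i _ => ?_
    by_cases hi : i ∈ A
    · rw [hu'A i hi]
    · rw [hxdef, res_apply, if_neg hi, zero_mul, zero_mul]
  -- the two products
  have hq : ∀ w : ι → F, w ⬝ᵥ w = 1 → x ⬝ᵥ w = 0 → ∀ y : ι → F,
      ap (rv w * rv (w - (2 : F) • x)) y =
        y + (4 * (y ⬝ᵥ w)) • x - (4 * (y ⬝ᵥ x)) • w - (8 * (y ⬝ᵥ x)) • x := by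
    intro w hw hxw y
    have hvv : (w - (2 : F) • x) ⬝ᵥ (w - (2 : F) • x) = 1 := by
      simp only [sub_dotProduct, dotProduct_sub, smul_dotProduct, dotProduct_smul, hw, hx, hxw,
        dotProduct_comm w x, smul_eq_mul]
      ring
    rw [ap_mul, ap_rv w, ap_rv _ y, hvv, hw, div_one, div_one]
    simp only [sub_dotProduct, dotProduct_sub, smul_dotProduct, dotProduct_smul, hw, hxw,
      smul_eq_mul]
    match_scalars <;> ring
  set v' := u' - (2 : F) • x with hv'
  have hv'1 : v' ⬝ᵥ v' = 1 := by rw [hv', ← hflip u' hu'A, dot_self_ap (dg_mem_GOs _), hu'1]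
  have hxv' : (-x) ⬝ᵥ v' = 0 := by
    simp [v', dotProduct_sub, dotProduct_smul, hxu', hx]
  have hx' : (-x) ⬝ᵥ (-x) = 0 := by simp [hx]
  have hgX : rv u * rv (u - (2 : F) • x) * (rv v' * rv u') ∈ X := by
    refine mul_mem ?_ ?_
    · rw [← hflip u fun i _ => rfl]
      exact InR.mul_mem' h2 hM hu (InR.flip h2 hX hM hu A) ho (by rw [ap_dg]; split_ifs <;> simp [ho])
    · rw [hv', ← hflip u' hu'A]
      refine InR.mul_mem' h2 hM (InR.flip h2 hX hM (InR.flip h2 hX hM hu {c}) A)
        (InR.flip h2 hX hM hu {c}) (o := o) ?_ hu'o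
      rw [ap_dg]; split_ifs <;> simp [hu'o]
  have hq' : ∀ y : ι → F, ap (rv v' * rv u') y =
      y - (4 * (y ⬝ᵥ v')) • x + (4 * (y ⬝ᵥ x)) • v' - (8 * (y ⬝ᵥ x)) • x := by
    intro y
    have hvv : (v' - (2 : F) • (-x)) = u' := by rw [hv']; module
    rw [← hvv, ap_mul, ap_rv v', ap_rv _ y, hv'1, hvv, hu'1, div_one, div_one]
    simp only [← hvv, sub_dotProduct, dotProduct_sub, smul_dotProduct, dotProduct_smul, hv'1,
      neg_dotProduct, dotProduct_neg, smul_eq_mul, neg_eq_zero.mp (by simpa using hxv' :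
        -(x ⬝ᵥ v') = 0)]
    match_scalars <;> ring
  have hqx : ap (rv u * rv (u - (2 : F) • x)) x = x := by
    rw [hq u hu1 hxu, hxu, hx]; simp
  refine ⟨_, hgX, ?_, fun y hy => ?_⟩
  · have hxc : x c = 0 := by rw [hxdef, res_apply, if_neg hc]
    have hu'c : u' c = -u c := by rw [hu', ap_dg]; simp
    rw [ap_mul, hq', single_dotProduct, single_dotProduct, hxc, hv', Pi.sub_apply, Pi.smul_apply,
      hxc, hu'c]
    simp only [smul_zero, sub_zero, one_mul, mul_zero, zero_smul, add_zero]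
    rw [ap_sub, ap_smul, hqx, hq u hu1 hxu, single_dotProduct, single_dotProduct, hxc]
    match_scalars <;> ring
  · have hyx : y ⬝ᵥ x = 0 := Finset.sum_eq_zero fun i _ => by
      rw [hxdef, res_apply]
      split_ifs with hi
      · rw [hy i (mem_insert_of_mem hi), zero_mul]
      · rw [mul_zero]
    have hyv : y ⬝ᵥ v' = y ⬝ᵥ u := by
      rw [hv', dotProduct_sub, dotProduct_smul, hyx, smul_zero, sub_zero]
      refine Finset.sum_congr rfl fun i _ => ?_
      rw [hu', ap_dg]
      split_ifs with hi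
      · rw [mem_singleton] at hi; subst hi; rw [hy i (mem_insert_self _ _)]; ring
      · rfl
    rw [ap_mul, hq', hyx, hyv]
    simp only [mul_zero, zero_smul, add_zero, sub_zero]
    rw [ap_sub, ap_smul, hqx, hq u hu1 hxu, hyx]
    match_scalars <;> ring

lemma small_of_move {u : ι → F} (hu : InR X u) {a b c : ι} (hab : a ≠ b) (hca : c ≠ a)
    (hcb : c ≠ b) (hua : u a ≠ 0) (hub : u b ≠ 0) (huc : u c ≠ 0)
    (hN : u a * u a + u b * u b = 0) : Small X := by
  have hx : res {a, b} u ⬝ᵥ res {a, b} u = 0 := by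
    rw [res_pair_single hab]
    simp [add_dotProduct, smul_dotProduct, hab, Ne.symm hab]
    linear_combination hN
  obtain ⟨g, hg, hgc, hfix⟩ := exists_move h2 hX hM hu hx (c := c) (by simp [hca, hcb])
  have h8 : (8 : F) ≠ 0 := by
    rw [show (8 : F) = 2 * 2 * 2 by norm_num]; exact mul_ne_zero (mul_ne_zero h2 h2) h2
  refine ⟨g, hg, not_isMon_of_col (j := c) hca ?_ ?_, insert c {a, b}, ?_, hfix⟩
  · rw [hgc]; simp [res_apply, hca, hcb]
  · rw [hgc]; simp [res_apply, hca, Ne.symm hca, h8, huc, hua]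
  · exact (card_insert_le _ _).trans (by rw [card_pair hab])

/-- The main move: drop two coordinates of different squares. -/
lemma step [Finite F] (hn : 4 ≤ Fintype.card ι) {u : ι → F} (hu : InR X u) {a b : ι} (hab : a ≠ b)
    (hua : u a ≠ 0) (hub : u b ≠ 0) (hne : u a * u a ≠ u b * u b)
    (hN : u a * u a + u b * u b ≠ 0) (hN' : u a * u a + u b * u b ≠ 1) :
    Small X ∨ ∃ c : F, c ≠ 0 ∧ InR X (c • res ({a, b}ᶜ) u) := by
  classical
  obtain ⟨hu1, o, ho, -⟩ := id hu
  have hoa : a ≠ o := fun e => hua (e ▸ ho)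
  have hob : b ≠ o := fun e => hub (e ▸ ho)
  set x := res {a, b} u with hx
  set r := res ({a, b}ᶜ) u with hr
  set n : ι → F := u a • (e[b] : ι → F) - u b • e[a] with hn'
  set N := u a * u a + u b * u b with hNdef
  have hxval : x = u a • (e[a] : ι → F) + u b • e[b] := res_pair_single hab u
  have hxx : x ⬝ᵥ x = N := by
    rw [hxval]; simp [add_dotProduct, smul_dotProduct, hab, Ne.symm hab, hNdef]
  have hnn : n ⬝ᵥ n = N := by
    simp [hn', sub_dotProduct, smul_dotProduct, hab, Ne.symm hab, hNdef]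
  have hxn : x ⬝ᵥ n = 0 := by
    rw [hxval]; simp [hn', add_dotProduct, smul_dotProduct, hab, Ne.symm hab]
    ring
  have hr0 : r a = 0 ∧ r b = 0 ∧ r o = 0 := by simp [hr, res_apply, ho]
  have hur : u = x + r := funext fun i => by
    simp only [hx, hr, Pi.add_apply, res_apply, mem_compl]
    split_ifs <;> simp_all
  have hxr : x ⬝ᵥ r = 0 := by rw [hxval]; simp [hr0]
  have hnr : n ⬝ᵥ r = 0 := by simp [hn', sub_dotProduct, smul_dotProduct, hr0]
  have hxo : x o = 0 := by simp [hx, res_apply, ho]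
  have hno : n o = 0 := by simp [hn', Ne.symm hoa, Ne.symm hob]
  have hrr : r ⬝ᵥ r = 1 - N := by
    have := hu1
    rw [hur, add_dotProduct, dotProduct_add, dotProduct_add, hxx, hxr, dotProduct_comm r x, hxr]
      at this
    linear_combination this
  have hrr0 : r ⬝ᵥ r ≠ 0 := by rw [hrr]; exact sub_ne_zero.mpr (Ne.symm hN')
  set h := rv u * rv (e[o] : ι → F) with hh
  set d := dg F {a, b} with hd
  have hhX : h ∈ X := hu.mem h2 hM ho
  have hdX : d ∈ X := dg_pair_mem hM hab
  have hhn : ap h n = n := by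
    rw [hh, ap_mul, ap_rv_fix (show n ⬝ᵥ (e[o] : ι → F) = 0 by simp [hno]), ap_rv_fix]
    rw [hur, dotProduct_add, dotProduct_comm n x, hxn, hnr, add_zero]
  have hdn : ap d n = -n := funext fun i => by
    rw [hd, ap_dg]
    by_cases hi : i ∈ ({a, b} : Finset ι)
    · simp [hi]
    · simp only [mem_insert, mem_singleton, not_or] at hi
      simp [hn', hi.1, hi.2]
  have hhu : ap h u = -u := by
    rw [hh, ap_mul, ap_rv_fix (show u ⬝ᵥ (e[o] : ι → F) = 0 by simp [ho]),
      ap_rv_self (by rw [hu1]; exact one_ne_zero)]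
  have hho : ap h e[o] = -(e[o] : ι → F) := by
    rw [hh, ap_mul, ap_rv_self (by simp), ← neg_one_smul F (e[o] : ι → F), ap_smul,
      ap_rv_fix (by simp [ho])]
  have hdo : ap d e[o] = (e[o] : ι → F) := funext fun i => by
    rw [hd, ap_dg]
    by_cases hi : i = o
    · subst hi; simp [Ne.symm hoa, Ne.symm hob]
    · simp [hi]
  have hh2 : h * h = 1 := by
    have hc : Commute (rv u) (rv (e[o] : ι → F)) := commute_rv h2 (by simp [ho])
    rw [hh]; nth_rewrite 2 [hc.eq]
    rw [mul_assoc, ← mul_assoc (rv (e[o] : ι → F)), rv_mul_self, one_mul, rv_mul_self]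
  have hn0 : n ≠ 0 := fun e => hN (by rw [← hnn, e, zero_dotProduct])
  have hnc : ∀ g ∈ Subgroup.closure ({h, d} : Set (GL ι F)), g * h * g⁻¹ ≠ d := by
    intro g hg he
    have hline : ∀ y ∈ Subgroup.closure ({h, d} : Set (GL ι F)),
        ∃ ε : F, (ε = 1 ∨ ε = -1) ∧ ap y n = ε • n := by
      intro y hy
      induction hy using Subgroup.closure_induction with
      | mem y hy =>
        rcases hy with rfl | rfl
        exacts [⟨1, Or.inl rfl, by rw [hhn, one_smul]⟩, ⟨-1, Or.inr rfl, by rw [hdn, neg_one_smul]⟩]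
      | one => exact ⟨1, Or.inl rfl, by simp⟩
      | mul y y' _ _ hy hy' =>
        obtain ⟨ε, hε, h1⟩ := hy
        obtain ⟨ε', hε', h3⟩ := hy'
        exact ⟨ε' * ε, by rcases hε with rfl | rfl <;> rcases hε' with rfl | rfl <;> simp,
          by rw [ap_mul, h3, ap_smul, h1, smul_smul]⟩
      | inv y _ hy =>
        obtain ⟨ε, hε, h1⟩ := hy
        refine ⟨ε, hε, ap_injective y ?_⟩
        rw [ap_ap_inv, ap_smul, h1, smul_smul]
        rcases hε with rfl | rfl <;> simp
    obtain ⟨ε, hε, hgn⟩ := hline g⁻¹ (inv_mem hg)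
    have h1 : ap (g * h * g⁻¹) n = n := by
      rw [ap_mul, ap_mul, hgn, ap_smul, hhn, ← hgn, ap_ap_inv]
    rw [he, hdn] at h1
    refine hn0 (funext fun i => (mul_eq_zero.mp (show 2 * n i = 0 from ?_)).resolve_left h2)
    have := congrFun h1 i
    simp only [Pi.neg_apply] at this
    linear_combination -this
  obtain ⟨z, -, hz1, hz2, hzh, hzd, s, hzs⟩ := exists_central (d := d) hh2 (dg_mul_self {a, b}) hnc
  have hzX : z ∈ X := hzs ▸ pow_mem (mul_mem hhX hdX) s
  have hdsp : ∀ y : ι → F, ap d y = y - (2 * (y ⬝ᵥ x) / N) • x - (2 * (y ⬝ᵥ n) / N) • n := by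
    intro y
    funext i
    rw [hd, ap_dg]
    simp only [hxval, hn', dotProduct_add, dotProduct_sub, dotProduct_smul, dotProduct_single,
      Pi.sub_apply, Pi.add_apply, Pi.smul_apply, smul_eq_mul]
    by_cases hia : i = a
    · subst hia
      simp [hab]
      field_simp
      rw [hNdef]; ring
    by_cases hib : i = b
    · subst hib
      simp [Ne.symm hab]
      field_simp
      rw [hNdef]; ring
    simp [hia, hib]
  clear_value h d
  have hpow : ∀ k : ℕ, ap ((h * d) ^ k) n = (-1 : F) ^ k • n ∧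
      ap ((h * d) ^ k) e[o] = (-1 : F) ^ k • (e[o] : ι → F) ∧
      ∀ y, y ⬝ᵥ x = 0 → y ⬝ᵥ r = 0 → y ⬝ᵥ n = 0 → y o = 0 → ap ((h * d) ^ k) y = y := by
    intro k
    induction k with
    | zero => exact ⟨by simp, by simp, fun y _ _ _ _ => by simp⟩
    | succ k ih =>
      obtain ⟨i1, i2, i3⟩ := ih
      refine ⟨?_, ?_, fun y h1 h3 h4 h5 => ?_⟩
      · rw [pow_succ (h * d) k, ap_mul, ap_mul, hdn, ← neg_one_smul F n, ap_smul, hhn, ap_smul, i1,
          smul_smul, ← pow_succ']
      · rw [pow_succ (h * d) k, ap_mul, ap_mul, hdo, hho, ← neg_one_smul F (e[o] : ι → F), ap_smul,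
          i2, smul_smul, ← pow_succ']
      · rw [pow_succ (h * d) k, ap_mul, ap_mul, hdsp, h1, h4]
        simp only [mul_zero, zero_div, zero_smul, sub_zero]
        have hhy : ap h y = y := by
          rw [hh, ap_mul, ap_rv_fix (show y ⬝ᵥ (e[o] : ι → F) = 0 by simp [h5]),
            ap_rv_fix (by rw [hur, dotProduct_add, h1, h3, add_zero])]
        rw [hhy, i3 y h1 h3 h4 h5]
  obtain ⟨hzn, hzo, hzfix⟩ := hpow s
  rw [← hzs] at hzn hzo hzfix
  set σ := (-1 : F) ^ s with hσdef
  have hσ : σ = 1 ∨ σ = -1 := neg_one_pow_eq_or F s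
  have hσ0 : σ ≠ 0 := by rcases hσ with e | e <;> rw [e] <;> simp
  have hzG := hX hzX
  have hzxo : ∀ y : ι → F, y o = 0 → ap z y o = 0 := fun y hy => by
    have := dot_ap h2 hzG y e[o]
    rw [hzo, dotProduct_smul, dotProduct_single, dotProduct_single, hy, smul_eq_mul, mul_one,
      zero_mul] at this
    exact (mul_eq_zero.mp this).resolve_left hσ0
  have hu0 : u ≠ 0 := fun e => zero_ne_one (α := F) (by rw [← hu1, e, zero_dotProduct])
  -- the action on the plane
  set γ := ap z u ⬝ᵥ u with hγdef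
  have hzu : ap z u = γ • u := by
    have h1 : ap h (ap z u) = -ap z u := by
      rw [← ap_mul, ← hzh.eq, ap_mul, hhu, ← neg_one_smul F u, ap_smul, neg_one_smul]
    rw [hh, ap_mul, ap_rv_fix (show ap z u ⬝ᵥ (e[o] : ι → F) = 0 by simp [hzxo u ho]), ap_rv, hu1,
      div_one, ← hγdef] at h1
    funext i
    have := congrFun h1 i
    simp only [Pi.sub_apply, Pi.smul_apply, Pi.neg_apply, smul_eq_mul] at this ⊢
    exact mul_left_cancel₀ h2 (by linear_combination this)
  have hγ : γ = 1 ∨ γ = -1 := by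
    have := dot_self_ap hzG u
    rw [hzu, smul_dotProduct, dotProduct_smul, hu1, smul_eq_mul, smul_eq_mul, mul_one] at this
    exact mul_self_eq_one_iff.mp this
  have hzx : ap z x = γ • x := by
    have h1 : ap d (ap z x) = -ap z x := by
      rw [← ap_mul, ← hzd.eq, ap_mul, hdsp, hxx, hxn]
      simp only [mul_zero, zero_div, zero_smul, sub_zero, mul_div_assoc, div_self hN, mul_one]
      rw [show x - (2 : F) • x = (-1 : F) • x by module, ap_smul, neg_one_smul]
    have hsupp : ∀ i, i ∉ ({a, b} : Finset ι) → ap z x i = 0 := fun i hi => by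
      have := congrFun h1 i
      rw [hd, ap_dg, if_neg hi, Pi.neg_apply] at this
      exact (mul_eq_zero.mp (show 2 * ap z x i = 0 by linear_combination this)).resolve_left h2
    have hr' : ∀ i ∈ ({a, b} : Finset ι), ap z r i = 0 := fun i hi => by
      have h3 : ap d (ap z r) = ap z r := by
        rw [← ap_mul, ← hzd.eq, ap_mul]
        congr 1
        funext j
        rw [hd, ap_dg, hr, res_apply]
        split_ifs with h4 h5 <;> first | rfl | exact neg_zero | exact absurd h4 (mem_compl.mp h5)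
      have := congrFun h3 i
      rw [hd, ap_dg, if_pos hi] at this
      exact (mul_eq_zero.mp (show 2 * ap z r i = 0 by linear_combination -this)).resolve_left h2
    funext i
    by_cases hi : i ∈ ({a, b} : Finset ι)
    · have := congrFun hzu i
      rw [hur, ap_add, Pi.add_apply, hr' i hi, add_zero] at this
      rw [this]
      simp only [Pi.smul_apply, Pi.add_apply, hr, res_apply, mem_compl, hi, not_true, if_false, add_zero]
    · rw [hsupp i hi, hx, Pi.smul_apply, res_apply, if_neg hi, smul_zero]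
  have hzr : ap z r = γ • r := by
    rw [show r = u - x by rw [hur]; module, ap_sub, hzu, hzx, smul_sub]
  have hzy : ∀ y : ι → F, ap z y = y + (γ - 1) • ((y ⬝ᵥ x / N) • x + (y ⬝ᵥ r / (r ⬝ᵥ r)) • r) +
      (σ - 1) • ((y ⬝ᵥ n / N) • n + y o • (e[o] : ι → F)) := by
    intro y
    have h1 := hzfix (y - (y ⬝ᵥ x / N) • x - (y ⬝ᵥ r / (r ⬝ᵥ r)) • r - (y ⬝ᵥ n / N) • n -
      y o • (e[o] : ι → F)) ?_ ?_ ?_ ?_
    · simp only [ap_sub, ap_smul, hzx, hzr, hzn, hzo] at h1
      linear_combination (norm := module) h1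
    · simp only [sub_dotProduct, smul_dotProduct, hxx, dotProduct_comm r x, hxr, dotProduct_comm n x,
        hxn, single_dotProduct, hxo, smul_eq_mul, mul_zero, sub_zero, div_mul_cancel₀ _ hN, sub_self]
    · simp only [sub_dotProduct, smul_dotProduct, hxr, hnr, single_dotProduct, hr0.2.2, smul_eq_mul,
        mul_zero, sub_zero, div_mul_cancel₀ _ hrr0, sub_self]
    · simp only [sub_dotProduct, smul_dotProduct, hxn, dotProduct_comm r n, hnr, hnn,
        single_dotProduct, hno, smul_eq_mul, mul_zero, sub_zero, div_mul_cancel₀ _ hN, sub_self]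
    · simp [hxo, hr0.2.2, hno]
  have hrne : ∀ i, r i ≠ 0 → i ≠ a ∧ i ≠ b ∧ i ≠ o := fun i hi =>
    ⟨fun e => hi (e ▸ hr0.1), fun e => hi (e ▸ hr0.2.1), fun e => hi (e ▸ hr0.2.2)⟩
  rcases hσ with hσ1 | hσ1 <;> rcases hγ with hγ1 | hγ1
  · exact absurd (gl_ext fun y => by rw [hzy, hσ1, hγ1, ap_one]; simp) hz1
  · -- the product of the reflections along the two parts
    left
    have hz : z = rv x * rv r := gl_ext fun y => by
      rw [hzy, hσ1, hγ1, ap_mul, ap_rv x, ap_rv r, sub_dotProduct, smul_dotProduct,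
        dotProduct_comm r x, hxr, hxx]
      simp only [smul_zero, sub_zero]
      match_scalars <;> ring
    set π := Equiv.swap a b * Equiv.swap b o with hπ
    have hπs : Equiv.Perm.sign π = 1 := by
      rw [hπ, map_mul, Equiv.Perm.sign_swap hab, Equiv.Perm.sign_swap hob]; decide
    have hπr : ap (pm F π) r = r := ap_eq_of_cols fun i hi => by
      rw [ap_pm_single, hπ, Equiv.Perm.mul_apply,
        Equiv.swap_apply_of_ne_of_ne (hrne i hi).2.1 (hrne i hi).2.2,
        Equiv.swap_apply_of_ne_of_ne (hrne i hi).1 (hrne i hi).2.1]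
    refine small_of_shift h2 hX hM hab (Ne.symm hoa) (Ne.symm hob) (v := x)
      (fun i h1 h3 => by simp [hxval, h1, h3]) (by simp [hxval, hab, hua])
      (by simp [hxval, Ne.symm hab, hub]) (by simpa [hxval, hab, Ne.symm hab] using hne)
      (by rw [hxx]; exact hN) ?_
    have hxπ : r ⬝ᵥ ap (pm F π) x = 0 := by
      rw [← hπr, dot_ap h2 (pm_mem_GOs π), dotProduct_comm, hxr]
    have hmem := mul_mem hzX (mul_mem (mul_mem (pm_mem hM hπs) hzX) (inv_mem (pm_mem hM hπs)))
    rwa [show pm F π * z * (pm F π)⁻¹ = rv (ap (pm F π) x) * rv (ap (pm F π) r) by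
      rw [hz, ← conj_rv h2 (pm_mem_GOs π), ← conj_rv h2 (pm_mem_GOs π)]; group, hπr, hz,
      mul_assoc (rv x), (commute_rv h2 (show ap (pm F π) x ⬝ᵥ r = 0 by
        rw [dotProduct_comm]; exact hxπ)).eq, ← mul_assoc (rv r), rv_mul_self, one_mul] at hmem
  · left
    have hz : z = rv n * rv (e[o] : ι → F) := gl_ext fun y => by
      rw [hzy, hσ1, hγ1, ap_mul, ap_rv n, ap_rv, sub_dotProduct, smul_dotProduct,
        show (e[o] : ι → F) ⬝ᵥ n = 0 by simp [hno], hnn]
      simp only [mul_zero, smul_zero, sub_zero, dotProduct_single, single_dotProduct,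
        Pi.single_eq_same, mul_one, one_mul, div_one]
      match_scalars <;> ring
    obtain ⟨l, hla, hlb, hlo⟩ : ∃ l, l ≠ a ∧ l ≠ b ∧ l ≠ o := by
      by_contra hc
      push Not at hc
      have := (card_le_card (show (univ : Finset ι) ⊆ {a, b, o} from fun l _ => by
        simp only [mem_insert, mem_singleton]
        by_contra h'
        simp only [not_or] at h'
        exact h'.2.2 (hc l h'.1 h'.2.1))).trans card_le_three
      rw [card_univ] at this
      omega
    set π := Equiv.swap a b * Equiv.swap b l with hπ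
    have hπs : Equiv.Perm.sign π = 1 := by
      rw [hπ, map_mul, Equiv.Perm.sign_swap hab, Equiv.Perm.sign_swap (Ne.symm hlb)]; decide
    have hπo : ap (pm F π) e[o] = (e[o] : ι → F) := by
      rw [ap_pm_single, hπ, Equiv.Perm.mul_apply, Equiv.swap_apply_of_ne_of_ne (Ne.symm hob) (Ne.symm hlo),
        Equiv.swap_apply_of_ne_of_ne (Ne.symm hoa) (Ne.symm hob)]
    refine small_of_shift h2 hX hM hab hla hlb (v := n)
      (fun i h1 h3 => by simp [hn', h1, h3]) (by simp [hn', hab, hub])
      (by simp [hn', Ne.symm hab, hua]) (by simpa [hn', hab, Ne.symm hab] using Ne.symm hne)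
      (by rw [hnn]; exact hN) ?_
    have hnπ : (e[o] : ι → F) ⬝ᵥ ap (pm F π) n = 0 := by
      rw [← hπo, dot_ap h2 (pm_mem_GOs π), single_dotProduct, hno, mul_zero]
    have hmem := mul_mem hzX (mul_mem (mul_mem (pm_mem hM hπs) hzX) (inv_mem (pm_mem hM hπs)))
    rwa [show pm F π * z * (pm F π)⁻¹ = rv (ap (pm F π) n) * rv (ap (pm F π) e[o]) by
      rw [hz, ← conj_rv h2 (pm_mem_GOs π), ← conj_rv h2 (pm_mem_GOs π)]; group, hπo, hz,
      mul_assoc (rv n), (commute_rv h2 (show ap (pm F π) n ⬝ᵥ (e[o] : ι → F) = 0 by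
        rw [dotProduct_comm]; exact hnπ)).eq, ← mul_assoc (rv (e[o] : ι → F)), rv_mul_self,
      one_mul] at hmem
  · -- `z * d` is a conjugate of `h`
    right
    obtain ⟨m, hm⟩ : Odd s := by
      rcases Nat.even_or_odd s with he | hodd
      · exfalso
        rw [hσdef, he.neg_one_pow] at hσ1
        exact h2 (by linear_combination hσ1)
      · exact hodd
    set g := (h * d) ^ m with hg
    have hgX : g ∈ X := pow_mem (mul_mem hhX hdX) m
    have hd2 : d * d = 1 := hd ▸ dg_mul_self {a, b}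
    have hgh : h * g⁻¹ = g * h := by
      have : h * g * h⁻¹ = g⁻¹ := by
        rw [hg, ← conj_pow, ← inv_pow]
        congr 1
        rw [_root_.mul_inv_rev, inv_eq_of_mul_eq_one_right hh2, inv_eq_of_mul_eq_one_right hd2,
          ← mul_assoc, hh2, one_mul]
      rw [← this, inv_eq_of_mul_eq_one_right hh2, ← mul_assoc, ← mul_assoc, hh2, one_mul]
    have hzdg : z * d = g * h * g⁻¹ := by
      rw [mul_assoc, hgh, hzs, hm, show 2 * m + 1 = m + (m + 1) by omega, pow_add, pow_succ, ← hg,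
        mul_assoc g, mul_assoc, mul_assoc h, hd2, mul_one]
    have hgo : ap g e[o] = (-1 : F) ^ m • (e[o] : ι → F) := (hpow m).2.1
    have hε : ((-1 : F) ^ m) ≠ 0 := pow_ne_zero _ (neg_ne_zero.mpr one_ne_zero)
    have hR := InR.map h2 hX hu hgX hε (by rw [← hh]; exact hhX) ho hgo
    obtain ⟨w, hw⟩ : ∃ w, w = ap g u := ⟨_, rfl⟩
    rw [← hw] at hR
    have hzdu : ap (z * d) w = -w := by
      rw [hw, hzdg, ap_mul, ap_mul, ap_inv_ap, hhu, ← neg_one_smul F u, ap_smul, neg_one_smul]
    have hzdy : ∀ y : ι → F, ap (z * d) y =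
        y - (2 * (y ⬝ᵥ r) / (r ⬝ᵥ r)) • r - (2 * y o) • (e[o] : ι → F) := fun y => by
      have hdo' : ap d y o = y o := by
        rw [hd, ap_dg, if_neg (by simp [Ne.symm hoa, Ne.symm hob])]
      rw [ap_mul, hzy, hσ1, hγ1, hdo']
      simp only [hdsp, sub_dotProduct, smul_dotProduct, hxx, hxr, hxn, dotProduct_comm n x, hnn,
        hnr, smul_eq_mul, mul_zero, sub_zero, div_mul_cancel₀ _ hN]
      match_scalars <;> ring
    have hwo : w o = 0 := by
      have := dot_ap h2 (hX hgX) u e[o]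
      rw [hgo, ← hw, dotProduct_smul, dotProduct_single, dotProduct_single, ho, smul_eq_mul,
        mul_one, zero_mul] at this
      exact (mul_eq_zero.mp this).resolve_left hε
    rw [hzdy, hwo] at hzdu
    refine ⟨w ⬝ᵥ r / (r ⬝ᵥ r), ?_, ?_⟩
    · intro h0
      have hw0 : w = 0 := by
        funext i
        have := congrFun hzdu i
        simp [mul_div_assoc, h0] at this
        exact (mul_eq_zero.mp (show 2 * w i = 0 by linear_combination this)).resolve_left h2
      have := hR.1
      rw [hw0, zero_dotProduct] at this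
      exact zero_ne_one this
    · convert hR using 1
      funext i
      have := congrFun hzdu i
      simp [mul_div_assoc] at this
      simp only [← hr, Pi.smul_apply, smul_eq_mul]
      exact mul_left_cancel₀ h2 (by linear_combination -this)

end CfsgLib.OMon
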